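import Mathlib
import Groth.Agent.KFlat.Pullback
import Groth.Agent.KFlat.PullTensor
import Groth.Agent.C1Cap.PullGen
import Groth.Agent.W7Hull.Sub
import Groth.Agent.W7Strat.Frame
import Groth.Agent.PCFppf.FT
import Groth.Agent.PBundle.FrameTools
import Groth.Agent.KrullSch.Isotypical
import Groth.Agent.CurveRR.Zero

/-!
Locally split monomorphisms into finite locally free modules: the stalk criterion and its behaviour under inverse images.
-/

set_option autoImplicit false
set_option linter.style.haveILetI false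
set_option backward.isDefEq.respectTransparency false
set_option maxHeartbeats 1000000

universe u

open CategoryTheory CategoryTheory.Limits AlgebraicGeometry TopologicalSpace Opposite
open Groth.Agent.QC (res resO res_res res_smul app_res)
open Groth.Agent.WeakAssLib (mgerm mgerm_smul mgerm_res)
open Groth.Agent.W7Hull (st st_germ st_comp st_id hom_ext_stalk)
open ProjMor (eta eta_res eta_smul)
open scoped TensorProduct

noncomputable section

namespace Groth.Agent.SplitMono

variable {X' X : Scheme.{u}} {F V : X.Modules}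

/-- the stalk map has a left inverse -/
def SplitAt (u : F ⟶ V) (x : X) : Prop :=
  ∃ l : V.presheaf.stalk x →ₗ[X.presheaf.stalk x] F.presheaf.stalk x, l ∘ₗ st u x = LinearMap.id

theorem splitAt_of_hom {u : F ⟶ V} (r : V ⟶ F) (h : u ≫ r = 𝟙 F) (x : X) : SplitAt u x :=
  ⟨st r x, LinearMap.ext fun z => by rw [LinearMap.comp_apply, ← st_comp, h, st_id]; rfl⟩

/-- a left inverse after base change along a local homomorphism gives a left inverse -/
theorem exists_leftInverse_of_baseChange {R L : Type u} [CommRing R] [IsLocalRing R] [CommRing L] [IsLocalRing L]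
    [Algebra R L] [IsLocalHom (algebraMap R L)] {M N : Type u} [AddCommGroup M] [Module R M] [AddCommGroup N]
    [Module R N] [Module.Finite R M] [Module.Finite R N] [Module.Free R N] (T : M →ₗ[R] N)
    (h : ∃ r : L ⊗[R] N →ₗ[L] L ⊗[R] M, r ∘ₗ T.baseChange L = LinearMap.id) :
    ∃ l, l ∘ₗ T = LinearMap.id := by
  obtain ⟨r, hr⟩ := h
  refine (IsLocalRing.split_injective_iff_lTensor_residueField_injective T).2 ?_
  let K := IsLocalRing.ResidueField R
  let K' := IsLocalRing.ResidueField L
  obtain ⟨g, hg⟩ := LinearMap.exists_leftInverse_of_injective (Algebra.linearMap K K')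
    (LinearMap.ker_eq_bot.2 (algebraMap K K').injective)
  let i : K →ₗ[R] K' := (Algebra.linearMap K K').restrictScalars R
  have hi : ∀ z : K ⊗[R] M, (g.restrictScalars R).rTensor M (i.rTensor M z) = z := fun z => by
    have h1 : g.restrictScalars R ∘ₗ i = LinearMap.id := LinearMap.ext fun a => LinearMap.congr_fun hg a
    rw [← LinearMap.comp_apply, ← LinearMap.rTensor_comp, h1, LinearMap.rTensor_id]
    rfl
  -- injectivity over the bigger residue field
  have hK' : Function.Injective (T.lTensor K') := by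
    let eM := TensorProduct.AlgebraTensorModule.cancelBaseChange R L L K' M
    let eN := TensorProduct.AlgebraTensorModule.cancelBaseChange R L L K' N
    have key : ∀ w, T.lTensor K' (eM w) = eN ((T.baseChange L).lTensor K' w) := by
      intro w
      induction w using TensorProduct.induction_on with
      | zero => simp
      | tmul a z =>
        induction z using TensorProduct.induction_on with
        | zero => simp
        | tmul b m => simp [eM, eN]
        | add p q hp hq => simp only [TensorProduct.tmul_add, map_add, hp, hq]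
      | add p q hp hq => simp only [map_add, hp, hq]
    intro z z' hz
    obtain ⟨w, rfl⟩ := eM.surjective z
    obtain ⟨w', rfl⟩ := eM.surjective z'
    rw [key, key] at hz
    have := congrArg (r.lTensor K') (eN.injective hz)
    rw [← LinearMap.comp_apply, ← LinearMap.comp_apply, ← LinearMap.lTensor_comp, hr, LinearMap.lTensor_id] at this
    exact congrArg eM this
  intro z z' hz
  have key : ∀ w, i.rTensor N (T.lTensor K w) = T.lTensor K' (i.rTensor M w) := fun w => by
    induction w using TensorProduct.induction_on with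
    | zero => simp
    | tmul a m => simp [i]
    | add p q hp hq => simp only [map_add, hp, hq]
  have h2 := congrArg (i.rTensor N) hz
  rw [key, key] at h2
  rw [← hi z, ← hi z', hK' h2]

theorem finite_free_stalk (hV : FlatMod.IsFinLocFree V) (x : X) :
    Module.Finite (X.presheaf.stalk x) (V.presheaf.stalk x) ∧ Module.Free (X.presheaf.stalk x) (V.presheaf.stalk x) := by
  obtain ⟨W, n, hW, ⟨e⟩⟩ := hV x
  obtain ⟨b⟩ := LocFree.exists_basis_stalk e (LocFree.isQCoh_of_isFinLocFree hV) hW
  exact ⟨Module.Finite.of_basis b, Module.Free.of_basis b⟩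

/-- stalks of inverse images -/
def pse (j : X' ⟶ X) (p : X') (M : X.Modules) :
    letI : Algebra (X.presheaf.stalk (j p)) (X'.presheaf.stalk p) := (j.stalkMap p).hom.toAlgebra
    ((Scheme.Modules.pullback j).obj M).presheaf.stalk p ≃ₗ[X'.presheaf.stalk p]
      X'.presheaf.stalk p ⊗[X.presheaf.stalk (j p)] M.presheaf.stalk (j p) :=
  ((KFlat.pullStalkIso j p).app M).toLinearEquiv

lemma extendScalars_map_apply {R S : Type u} [CommRing R] [CommRing S] (φ : R →+* S) {M N : ModuleCat.{u} R}
    (g : M ⟶ N) (w) :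
    letI : Algebra R S := φ.toAlgebra
    (((ModuleCat.extendScalars.{u, u, u} φ).map g).hom w : S ⊗[R] N) = g.hom.baseChange S w := by
  letI : Algebra R S := φ.toAlgebra
  induction w using TensorProduct.induction_on with
  | zero => rw [map_zero]; exact (map_zero _).symm
  | tmul a b => rfl
  | add a b ha hb => exact (map_add _ a b).trans ((congrArg₂ (· + ·) ha hb).trans (map_add _ a b).symm)

/-- the comparison of the stalks of a pulled back morphism -/
theorem pullStalk_natural (j : X' ⟶ X) (p : X') (u : F ⟶ V) (z : ((Scheme.Modules.pullback j).obj F).presheaf.stalk p) :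
    letI : Algebra (X.presheaf.stalk (j p)) (X'.presheaf.stalk p) := (j.stalkMap p).hom.toAlgebra
    pse j p V (st ((Scheme.Modules.pullback j).map u) p z) = (st u (j p)).baseChange (X'.presheaf.stalk p) (pse j p F z) := by
  have h := ConcreteCategory.congr_hom ((KFlat.pullStalkIso j p).hom.naturality u) z
  refine Eq.trans ?_ (extendScalars_map_apply (j.stalkMap p).hom ((DerSch.stalkFunctor X (j p)).map u) (pse j p F z))
  exact h

theorem splitAt_of_pullback (j : X' ⟶ X) (p : X') {u : F ⟶ V} (hF : CohB1.IsFT F) (hV : FlatMod.IsFinLocFree V)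
    (h : SplitAt ((Scheme.Modules.pullback j).map u) p) : SplitAt u (j p) := by
  obtain ⟨l, hl⟩ := h
  letI : Algebra (X.presheaf.stalk (j p)) (X'.presheaf.stalk p) := (j.stalkMap p).hom.toAlgebra
  haveI : IsLocalHom (algebraMap (X.presheaf.stalk (j p)) (X'.presheaf.stalk p)) :=
    inferInstanceAs (IsLocalHom (j.stalkMap p).hom)
  haveI := PCFppf.finite_stalk hF (j p)
  haveI := (finite_free_stalk hV (j p)).1
  haveI := (finite_free_stalk hV (j p)).2
  let eF := pse j p F
  let eV := pse j p V
  refine exists_leftInverse_of_baseChange (L := X'.presheaf.stalk p) (st u (j p))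
    ⟨eF.toLinearMap ∘ₗ l ∘ₗ eV.symm.toLinearMap, LinearMap.ext fun z => ?_⟩
  obtain ⟨w, rfl⟩ := eF.surjective z
  have h1 : (st u (j p)).baseChange (X'.presheaf.stalk p) (eF w) = eV (st ((Scheme.Modules.pullback j).map u) p w) :=
    (pullStalk_natural j p u w).symm
  show eF (l (eV.symm ((st u (j p)).baseChange (X'.presheaf.stalk p) (eF w)))) = eF w
  rw [h1, LinearEquiv.symm_apply_apply]
  exact congrArg eF (LinearMap.congr_fun hl w)

theorem splitAt_pullback (j : X' ⟶ X) (p : X') {u : F ⟶ V} (h : SplitAt u (j p)) :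
    SplitAt ((Scheme.Modules.pullback j).map u) p := by
  obtain ⟨l, hl⟩ := h
  letI : Algebra (X.presheaf.stalk (j p)) (X'.presheaf.stalk p) := (j.stalkMap p).hom.toAlgebra
  let eF := pse j p F
  let eV := pse j p V
  refine ⟨eF.symm.toLinearMap ∘ₗ l.baseChange (X'.presheaf.stalk p) ∘ₗ eV.toLinearMap, LinearMap.ext fun z => ?_⟩
  apply eF.injective
  show eF (eF.symm (l.baseChange _ (eV (st ((Scheme.Modules.pullback j).map u) p z)))) = eF z
  rw [LinearEquiv.apply_symm_apply,
    show eV (st ((Scheme.Modules.pullback j).map u) p z) = (st u (j p)).baseChange _ (eF z) from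
      pullStalk_natural j p u z, ← LinearMap.comp_apply, ← LinearMap.baseChange_comp, hl, LinearMap.baseChange_id]
  rfl

/-- **A stalkwise left inverse spreads to a neighbourhood.** -/
theorem exists_retraction (u : F ⟶ V) (hF : CohB1.IsFT F) (hV : FlatMod.IsFinLocFree V) {x : X} (h : SplitAt u x) :
    ∃ W : X.Opens, x ∈ W ∧ ∃ r : (Scheme.Modules.pullback W.ι).obj V ⟶ (Scheme.Modules.pullback W.ι).obj F,
      (Scheme.Modules.pullback W.ι).map u ≫ r = 𝟙 _ := by
  classical
  obtain ⟨l, hl⟩ := h
  obtain ⟨U₁, n, e, hxU₁, he⟩ := TMul.exists_isFrame hV x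
  obtain ⟨U₀, κ, _, s, hxU₀, hspan⟩ := RefStalk.exists_spanning_nhd hF x
  haveI : Fintype κ := Fintype.ofFinite κ
  choose O hxO t ht using fun i => F.presheaf.exists_germ_eq (x := x) (l (mgerm V hxU₁ (e i)))
  let U : X.Opens := Finset.univ.inf O ⊓ U₁ ⊓ U₀
  have hxU : x ∈ U := ⟨⟨by
    have : x ∈ ((Finset.univ.inf O : X.Opens) : Set X) := by
      rw [Opens.coe_finset_inf, Finset.inf_set_eq_iInter, Set.mem_iInter₂]
      exact fun i _ => hxO i
    exact this, hxU₁⟩, hxU₀⟩
  have hU₁ : U ≤ U₁ := inf_le_left.trans inf_le_right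
  have hU₀ : U ≤ U₀ := inf_le_right
  have hO : ∀ i, U ≤ O i := fun i => (inf_le_left.trans inf_le_left).trans (Finset.inf_le (Finset.mem_univ i))
  let t' : Fin n → Γ(F, U) := fun i => res F (hO i) (t i)
  choose c hc using fun k => he.comb_surjective hU₁ (u.app U (res F hU₀ (s k)))
  have hgerm : ∀ k, mgerm F hxU (∑ i, c k i • t' i) = mgerm F hxU (res F hU₀ (s k)) := fun k => by
    have h2 : l (st u x (mgerm F hxU (res F hU₀ (s k)))) = mgerm F hxU (res F hU₀ (s k)) := LinearMap.congr_fun hl _
    refine Eq.trans ?_ h2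
    rw [show st u x (mgerm F hxU (res F hU₀ (s k))) = mgerm V hxU (u.app U (res F hU₀ (s k))) from st_germ u hxU _,
      ← hc k, TMul.germ_comb, map_sum, map_sum]
    refine Finset.sum_congr rfl fun i _ => ?_
    rw [mgerm_smul, map_smul]
    exact congrArg _ ((mgerm_res F (hO i) hxU (t i)).trans (ht i))
  choose P hxP i₁ i₂ hP using fun k => TopCat.Presheaf.germ_eq F.presheaf x hxU hxU _ _ (hgerm k)
  let W : X.Opens := Finset.univ.inf P ⊓ U
  have hxW : x ∈ W := ⟨by
    have : x ∈ ((Finset.univ.inf P : X.Opens) : Set X) := by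
      rw [Opens.coe_finset_inf, Finset.inf_set_eq_iInter, Set.mem_iInter₂]
      exact fun k _ => hxP k
    exact this, hxU⟩
  have hWU : W ≤ U := inf_le_right
  have hWP : ∀ k, W ≤ P k := fun k => inf_le_left.trans (Finset.inf_le (Finset.mem_univ k))
  have hrel : ∀ k, ∑ i, resO X hWU (c k i) • res F hWU (t' i) = res F (hWU.trans hU₀) (s k) := fun k => by
    have h3 := congrArg (res F (hWP k)) (show res F (i₁ k).le (∑ i, c k i • t' i) = res F (i₂ k).le (res F hU₀ (s k)) from hP k)
    simp only [res_res, map_sum, res_smul, QC.resO_resO] at h3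
    exact h3
  refine ⟨W, hxW, ?_⟩
  let he' := (W7Strat.isFrame_res he (hWU.trans hU₁)).pullback W.ι
  obtain ⟨r, hr⟩ := PBundle.exists_hom_frame he' W.ι_preimage_self
    (fun i => eta W.ι F W (res F hWU (t' i)))
  refine ⟨r, hom_ext_stalk fun q => ?_⟩
  have hq : W.ι q ∈ W := q.2
  let P₀ := Scheme.Modules.pullback W.ι
  suffices hk : ∀ m, st (P₀.map u ≫ r) q (KFlat.kap W.ι q F m) = st (𝟙 (P₀.obj F)) q (KFlat.kap W.ι q F m) by
    exact congrArg ModuleCat.Hom.hom
      (KFlat.pull_stalk_ext W.ι q F (g := (DerSch.stalkFunctor _ q).map (P₀.map u ≫ r))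
        (g' := (DerSch.stalkFunctor _ q).map (𝟙 (P₀.obj F))) hk)
  intro m
  have hm : m ∈ Submodule.span (X.presheaf.stalk (W.ι q))
      (Set.range fun k => mgerm F hq (res F (hWU.trans hU₀) (s k))) := by
    have := hspan (W.ι q) (hU₀ (hWU hq))
    simp only [mgerm_res]
    exact this.symm ▸ Submodule.mem_top
  induction hm using Submodule.span_induction with
  | mem z hz =>
    obtain ⟨k, rfl⟩ := hz
    have hηs : r.app (W.ι ⁻¹ᵁ W) ((P₀.map u).app (W.ι ⁻¹ᵁ W) (eta W.ι F W (res F (hWU.trans hU₀) (s k)))) =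
        eta W.ι F W (res F (hWU.trans hU₀) (s k)) := by
      have hnat : (P₀.map u).app (W.ι ⁻¹ᵁ W) (eta W.ι F W (res F (hWU.trans hU₀) (s k))) =
          eta W.ι V W (u.app W (res F (hWU.trans hU₀) (s k))) :=
        (congr($((Scheme.Modules.pullbackPushforwardAdjunction W.ι).unit.naturality u).app W
          (res F (hWU.trans hU₀) (s k)))).symm
      have hu : u.app W (res F (hWU.trans hU₀) (s k)) = ∑ i, resO X hWU (c k i) • res V (hWU.trans hU₁) (e i) := by
        have h4 := congrArg (res V hWU) (hc k)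
        simp only [map_sum, res_smul, res_res] at h4
        rw [h4, ← app_res u (hWU.trans hU₀), ← app_res u hU₀, res_res]
      rw [hnat, hu, map_sum, map_sum]
      refine Eq.trans ?_ (congrArg (eta W.ι F W) (hrel k))
      rw [map_sum]
      refine Finset.sum_congr rfl fun i _ => ?_
      rw [eta_smul, TMul.app_smul, eta_smul]
      exact congrArg _ (hr i)
    have hkap : KFlat.kap W.ι q F (mgerm F hq (res F (hWU.trans hU₀) (s k))) =
        mgerm (P₀.obj F) (show q ∈ W.ι ⁻¹ᵁ W from hq) (eta W.ι F W (res F (hWU.trans hU₀) (s k))) :=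
      KFlat.kap_germ W.ι q F W hq _
    rw [hkap]
    refine (st_germ _ _ _).trans (Eq.trans ?_ (st_germ _ _ _).symm)
    exact congrArg _ hηs
  | zero => simp
  | add a b _ _ ha hb => simp only [map_add, ha, hb]
  | smul a z _ hz => rw [KFlat.kap_smul, map_smul, map_smul, hz]

/-- locally split monomorphisms are stalkwise split -/
theorem splitAt_of_local {u : F ⟶ V} (hF : CohB1.IsFT F) (hV : FlatMod.IsFinLocFree V) (x : X)
    (h : ∃ U : X.Opens, x ∈ U ∧ ∃ r : (Scheme.Modules.pullback U.ι).obj V ⟶ (Scheme.Modules.pullback U.ι).obj F,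
      (Scheme.Modules.pullback U.ι).map u ≫ r = 𝟙 _) : SplitAt u x := by
  obtain ⟨U, hx, r, hr⟩ := h
  exact splitAt_of_pullback U.ι ⟨x, hx⟩ hF hV (splitAt_of_hom r hr _)

theorem mono_of_splitAt {u : F ⟶ V} (h : ∀ x, SplitAt u x) : Mono u := by
  constructor
  intro Z a b hab
  refine hom_ext_stalk fun x => LinearMap.ext fun z => ?_
  obtain ⟨l, hl⟩ := h x
  have h1 := congrArg l ((st_comp a u x z).symm.trans ((LinearMap.congr_fun (congrArg (st · x) hab) z).trans (st_comp b u x z)))
  exact (LinearMap.congr_fun hl _).symm.trans (h1.trans (LinearMap.congr_fun hl _))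

/-- the cokernel of a locally split monomorphism -/
theorem isFinLocFree_cokernel {u : F ⟶ V} (hF : CohB1.IsFT F) (hV : FlatMod.IsFinLocFree V) (h : ∀ x, SplitAt u x) :
    FlatMod.IsFinLocFree (cokernel u) := by
  refine DQCoh.isFinLocFree_of_local fun x => ?_
  obtain ⟨W, hx, r, hr⟩ := exists_retraction u hF hV (h x)
  refine ⟨W, W.ι, inferInstance, ⟨x, hx⟩, rfl, ?_⟩
  let P₀ := Scheme.Modules.pullback W.ι
  haveI : P₀.IsLeftAdjoint := (Scheme.Modules.pullbackPushforwardAdjunction W.ι).isLeftAdjoint
  haveI : P₀.PreservesZeroMorphisms := inferInstance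
  refine DQCoh.isFinLocFree_of_iso' ((Scheme.Modules.restrictFunctorIsoPullback W.ι).app _).symm ?_
  refine DQCoh.isFinLocFree_of_iso' (PreservesCokernel.iso P₀ u).symm ?_
  refine KrullSch.isFinLocFree_retract (DerPerf.isFinLocFree_pullback W.ι hV)
    (cokernel.desc (P₀.map u) (𝟙 _ - r ≫ P₀.map u) ?_) (cokernel.π (P₀.map u)) ?_
  · rw [Preadditive.comp_sub, Category.comp_id, reassoc_of% hr, sub_self]
  · apply coequalizer.hom_ext
    rw [← Category.assoc, cokernel.π_desc, Preadditive.sub_comp, Category.assoc, cokernel.condition, comp_zero, sub_zero]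
    erw [Category.id_comp]

theorem splitAt_of_mono_cokernel {u : F ⟶ V} [Mono u] (hC : FlatMod.IsFinLocFree (cokernel u)) (x : X) : SplitAt u x := by
  haveI := (finite_free_stalk hC x).2
  let S := ShortComplex.mk u (cokernel.π u) (cokernel.condition u)
  have hS : S.ShortExact := { exact := ShortComplex.exact_cokernel u }
  have hx := hS.map_of_exact (DerSch.stalkFunctor X x)
  haveI : Module.Projective (X.presheaf.stalk x) (S.map (DerSch.stalkFunctor X x)).X₃ :=
    inferInstanceAs (Module.Projective (X.presheaf.stalk x) ((cokernel u).presheaf.stalk x))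
  obtain ⟨σ, hσ⟩ := Module.projective_lifting_property (S.map (DerSch.stalkFunctor X x)).g.hom LinearMap.id
    ((ModuleCat.epi_iff_surjective _).1 hx.epi_g)
  have ht := Function.Exact.split_tfae (R := X.presheaf.stalk x) (f := (S.map (DerSch.stalkFunctor X x)).f.hom)
    (g := (S.map (DerSch.stalkFunctor X x)).g.hom) ((ShortComplex.ShortExact.moduleCat_exact_iff_function_exact _).1 hx.exact)
    ((ModuleCat.mono_iff_injective _).1 hx.mono_f) ((ModuleCat.epi_iff_surjective _).1 hx.epi_g)
  have ht' : (∃ l, (S.map (DerSch.stalkFunctor X x)).g.hom ∘ₗ l = LinearMap.id) ↔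
      ∃ l, l ∘ₗ (S.map (DerSch.stalkFunctor X x)).f.hom = LinearMap.id := ht.out 0 1
  obtain ⟨l, hl⟩ := ht'.1 ⟨σ, hσ⟩
  exact ⟨l, hl⟩

/-- a monomorphism at a field valued point is split there -/
theorem splitAt_of_mono_field {K : Type u} [Field K] (j : Spec (CommRingCat.of K) ⟶ X) (p : Spec (CommRingCat.of K))
    {u : F ⟶ V} (hF : CohB1.IsFT F) (hV : FlatMod.IsFinLocFree V)
    [Mono ((Scheme.Modules.pullback j).map u)] : SplitAt u (j p) := by
  refine splitAt_of_pullback j p hF hV ?_
  let R := (Spec (CommRingCat.of K)).presheaf.stalk p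
  have hR : IsField R := by
    letI : Algebra K R := (StructureSheaf.toStalk (CommRingCat.of K) p).hom.toAlgebra
    haveI : IsLocalization p.asIdeal.primeCompl R :=
      inferInstanceAs (IsLocalization.AtPrime ((AlgebraicGeometry.structurePresheafInCommRingCat (CommRingCat.of K)).stalk p) p.asIdeal)
    exact MulEquiv.isField (Field.toIsField K) (IsLocalization.atUnits K p.asIdeal.primeCompl (S := R) (fun y hy => by
      have : y ≠ 0 := fun e => hy (e ▸ p.asIdeal.zero_mem)
      exact isUnit_iff_ne_zero.2 this)).symm.toMulEquiv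
  letI : Field R := hR.toField
  obtain ⟨l, hl⟩ := LinearMap.exists_leftInverse_of_injective (st ((Scheme.Modules.pullback j).map u) p)
    (LinearMap.ker_eq_bot.2 (W7Hull.st_injective _ p))
  exact ⟨l, hl⟩

end Groth.Agent.SplitMono
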